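import Groth.Agent.ASpAffImm.Poly
import Groth.Agent.ASp.SepAffine
import Groth.Agent.ASp.ImmDesc
import Groth.Agent.ASp.QSBase
import Groth.Agent.ASp.Glue
import Groth.Agent.ASp.Points

/-!
An immersion of an affine scheme over an algebraic space into relative affine space, given an immersion
`U ×_X W ⟶ U ×_S W` for an etale chart `W`.
-/

set_option autoImplicit false
set_option backward.isDefEq.respectTransparency false
set_option backward.isDefEq.respectTransparency.types false
universe u
open CategoryTheory CategoryTheory.Limits AlgebraicGeometry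
open AlgSp

namespace Groth.Agent.ASpAffImm

open Groth.Agent Groth.Agent.ASp Groth.Agent

variable {S : Scheme.{u}}

/-- An affine etale chart whose image contains a given quasi-compact set of points. -/
theorem exists_affine_chart_range {X : Sp S} (hX : IsAlgSpace X) {U : Over S} [CompactSpace ↥U.left]
    (f : (yon S).obj U ⟶ X) :
    ∃ (W : Over S) (b : (yon S).obj W ⟶ X), IsAffine W.left ∧ RepWith @Etale b ∧
      Set.range (Points.ofPt f) ⊆ Set.range (Points.ofPt b) := by
  classical
  obtain ⟨W₀, b₀, hb, hbs⟩ := hX.atlas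
  have hch : ∀ x : Points X, ∃ A : W₀.left.Opens, IsAffineOpen A ∧ x ∈ Points.ofPt b₀ '' A := fun x => by
    obtain ⟨w, rfl⟩ := surjective_ofPt hbs x
    obtain ⟨A, hA, hwA, -⟩ := exists_isAffineOpen_mem_and_subset (x := w) (U := (⊤ : W₀.left.Opens)) (by simp)
    exact ⟨A, hA, w, hwA, rfl⟩
  choose A hA hxA using hch
  obtain ⟨t, ht⟩ := (isCompact_range (Points.continuous_ofPt f)).elim_finite_subcover
    (fun x => Points.ofPt b₀ '' (A x : Set ↥W₀.left)) (fun x => isOpenMap_ofPt_of_etale hb _ (A x).2)
    (fun x _ => Set.mem_iUnion.2 ⟨x, hxA x⟩)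
  let ι := ULift.{u} (Fin t.card)
  let B : ι → W₀.left.Opens := fun i => A (t.equivFin.symm i.down).1
  haveI : ∀ i, IsAffine (B i).toScheme := fun i => hA _
  let d : ∐ (fun i => (B i).toScheme) ⟶ W₀.left := Limits.Sigma.desc fun i => (B i).ι
  haveI : Etale d := IsZariskiLocalAtSource.sigmaDesc fun i => inferInstance
  let W : Over S := Over.mk (d ≫ W₀.hom)
  let dW : W ⟶ W₀ := Over.homMk d rfl
  refine ⟨W, (yon S).map dW ≫ b₀, inferInstanceAs (IsAffine (∐ fun i => (B i).toScheme)),
    repWith_comp (repWith_yon_map (P := @Etale) (g := dW) (inferInstanceAs (Etale d))) hb, fun x hx => ?_⟩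
  obtain ⟨y, hy, a, ha, rfl⟩ := Set.mem_iUnion₂.1 (ht hx)
  let i : ι := ⟨t.equivFin ⟨y, hy⟩⟩
  have hi : a ∈ B i := by simpa [B, i] using ha
  refine ⟨Limits.Sigma.ι (fun i => (B i).toScheme) i ⟨a, hi⟩, ?_⟩
  rw [ofPt_yon_map_comp]
  congr 1
  show d (Limits.Sigma.ι (fun i => (B i).toScheme) i ⟨a, hi⟩) = a
  rw [← Scheme.Hom.comp_apply, Sigma.ι_desc]
  rfl

/-- The product over `S` is the fibre product of the structure maps. -/
theorem isPullback_prod_left (U W : Over S) :
    IsPullback (prod.fst : U ⨯ W ⟶ U).left (prod.snd : U ⨯ W ⟶ W).left U.hom W.hom := by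
  refine IsPullback.of_iso_pullback ⟨by rw [Over.w, Over.w]⟩ (Over.prodLeftIsoPullback U W) ?_ ?_
  · simp
  · simp

/-- The scheme theoretic core: finitely many functions on `U` embed `U ×_X W` into affine space over `W`. -/
theorem exists_functions {U W V : Over S} [IsAffine U.left] [IsAffine W.left] [CompactSpace ↥V.left]
    (qU : V ⟶ U) (qW : V ⟶ W) [IsImmersion (prod.lift qU qW).left] [LocallyOfFiniteType qW.left] :
    ∃ (n : ℕ) (a : ULift.{u} (Fin n) → Γ(U.left, ⊤)),
      IsImmersion (AffineSpace.homOfVector qW.left (fun i => qU.left.appTop (a i))) := by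
  let A := Γ(U.left, ⊤)
  let B := Γ(W.left, ⊤)
  let α : A → Γ(V.left, ⊤) := qU.left.appTop
  let β : B →+* Γ(V.left, ⊤) := qW.left.appTop.hom
  have hβ : LocallyOfFiniteType (ASpAffImm.toSpec β) := by
    have : ASpAffImm.toSpec β = qW.left ≫ W.left.isoSpec.hom :=
      (Scheme.toSpecΓ_naturality qW.left).symm
    rw [this]; infer_instance
  have hm : IsImmersion (ASpAffImm.toSpec (MvPolynomial.eval₂Hom β α)) := by
    -- the absolute product
    let c := CommRingCat.coproductCocone A B
    have hsq : IsPullback (Spec.map c.inl ≫ U.left.isoSpec.inv) (Spec.map c.inr ≫ W.left.isoSpec.inv)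
        (terminal.from U.left) (terminal.from W.left) :=
      (isPullback_spec_tensor A B).of_iso (Iso.refl _) U.left.isoSpec.symm W.left.isoSpec.symm (Iso.refl _)
        (by simp [c]) (by simp [c]) (Subsingleton.elim _ _) (Subsingleton.elim _ _)
    have hP : IsPullback (prod.fst : U ⨯ W ⟶ U).left (prod.snd : U ⨯ W ⟶ W).left U.hom W.hom :=
      isPullback_prod_left U W
    let μ' : (TensorProduct ℤ A B) →+* Γ(V.left, ⊤) :=
      (Algebra.TensorProduct.lift (qU.left.appTop.hom.toIntAlgHom) (β.toIntAlgHom) fun _ _ => Commute.all _ _).toRingHom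
    have hμl : ∀ x : A, μ' (x ⊗ₜ 1) = qU.left.appTop.hom x := fun x =>
      (Algebra.TensorProduct.lift_tmul qU.left.appTop.hom.toIntAlgHom β.toIntAlgHom (fun _ _ => Commute.all _ _) x 1).trans
        (by rw [map_one, mul_one]; rfl)
    have hμr : ∀ x : B, μ' (1 ⊗ₜ x) = β x := fun x =>
      (Algebra.TensorProduct.lift_tmul qU.left.appTop.hom.toIntAlgHom β.toIntAlgHom (fun _ _ => Commute.all _ _) 1 x).trans
        (by rw [map_one, one_mul]; rfl)
    have h1 : IsImmersion (ASpAffImm.toSpec μ') := by
      let k : (U ⨯ W).left ⟶ Spec c.pt := hsq.lift (prod.fst : U ⨯ W ⟶ U).left (prod.snd : U ⨯ W ⟶ W).left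
        (Subsingleton.elim _ _)
      haveI : IsImmersion k := by
        let M := pullback.map U.hom W.hom (U.hom ≫ terminal.from S) (W.hom ≫ terminal.from S) (𝟙 _) (𝟙 _)
          (terminal.from S) (by simp) (by simp)
        haveI : IsImmersion M :=
          MorphismProperty.of_isPullback (pullback_map_diagonal_isPullback U.hom W.hom (terminal.from S))
            (inferInstanceAs (IsImmersion (pullback.diagonal (terminal.from S))))
        have hT : IsPullback (Spec.map c.inl ≫ U.left.isoSpec.inv) (Spec.map c.inr ≫ W.left.isoSpec.inv)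
            (U.hom ≫ terminal.from S) (W.hom ≫ terminal.from S) := by
          rwa [Subsingleton.elim (U.hom ≫ terminal.from S) (terminal.from U.left),
            Subsingleton.elim (W.hom ≫ terminal.from S) (terminal.from W.left)]
        have e : k = hP.isoPullback.hom ≫ M ≫ hT.isoPullback.inv := by
          rw [← Category.assoc, Iso.eq_comp_inv]
          apply pullback.hom_ext <;> simp [k, M]
        rw [e]; infer_instance
      have e : ASpAffImm.toSpec μ' = (prod.lift qU qW).left ≫ k := by
        refine hsq.hom_ext ?_ ?_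
        · rw [Category.assoc, hsq.lift_fst, ← Over.comp_left, prod.lift_fst, ← cancel_mono U.left.isoSpec.hom,
            Category.assoc, Category.assoc, Iso.inv_hom_id, Category.comp_id]
          refine Eq.trans ?_ (Scheme.toSpecΓ_naturality qU.left).symm
          show (V.left.toSpecΓ ≫ _) ≫ _ = _
          rw [Category.assoc, ← Spec.map_comp]
          congr 2
          exact CommRingCat.hom_ext (RingHom.ext fun x => by
            exact hμl x)
        · rw [Category.assoc, hsq.lift_snd, ← Over.comp_left, prod.lift_snd, ← cancel_mono W.left.isoSpec.hom,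
            Category.assoc, Category.assoc, Iso.inv_hom_id, Category.comp_id]
          refine Eq.trans ?_ (Scheme.toSpecΓ_naturality qW.left).symm
          show (V.left.toSpecΓ ≫ _) ≫ _ = _
          rw [Category.assoc, ← Spec.map_comp]
          congr 2
          exact CommRingCat.hom_ext (RingHom.ext fun x => by
            exact hμr x)
      rw [e]; infer_instance
    let π : MvPolynomial A B →+* TensorProduct ℤ A B :=
      MvPolynomial.eval₂Hom (Algebra.TensorProduct.includeRight : B →ₐ[ℤ] TensorProduct ℤ A B).toRingHom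
        (fun a => a ⊗ₜ 1)
    have hπ : Function.Surjective π := fun z => by
      induction z using TensorProduct.induction_on with
      | zero => exact ⟨0, map_zero _⟩
      | tmul a b => exact ⟨MvPolynomial.X a * MvPolynomial.C b, by simp [π]⟩
      | add x y hx hy =>
        obtain ⟨x, rfl⟩ := hx
        obtain ⟨y, rfl⟩ := hy
        exact ⟨x + y, map_add _ _ _⟩
    have e : MvPolynomial.eval₂Hom β α = μ'.comp π :=
      MvPolynomial.ringHom_ext
        (fun b => by
          simp only [π, RingHom.comp_apply, MvPolynomial.eval₂Hom_C]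
          exact (hμr b).symm)
        (fun a => by
          simp only [π, RingHom.comp_apply, MvPolynomial.eval₂Hom_X']
          exact (hμl a).symm)
    haveI := IsClosedImmersion.spec_of_surjective (CommRingCat.ofHom π) hπ
    haveI := h1
    rw [e, ← ASpAffImm.toSpec_comp]
    infer_instance
  obtain ⟨n, a, h⟩ := ASpAffImm.exists_finite_variables β hβ α hm
  refine ⟨n, a, ?_⟩
  have e : AffineSpace.homOfVector qW.left (fun i => qU.left.appTop (a i)) =
      ASpAffImm.toSpec (MvPolynomial.eval₂Hom β (α ∘ a)) ≫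
        (AffineSpace.isoOfIsAffine (ULift.{u} (Fin n)) W.left).inv := by
    apply AffineSpace.hom_ext
    · rw [AffineSpace.homOfVector_over, Category.assoc, AffineSpace.isoOfIsAffine_inv_over, ASpAffImm.toSpec,
        Category.assoc, ← Spec.map_comp_assoc, ← cancel_mono W.left.isoSpec.hom]
      simp only [Category.assoc, Iso.inv_hom_id, Category.comp_id]
      refine (Scheme.toSpecΓ_naturality qW.left).trans ?_
      congr 2
      exact CommRingCat.hom_ext (RingHom.ext fun b => by simp [β])
    · intro i
      rw [AffineSpace.homOfVector_appTop_coord, Scheme.Hom.comp_appTop, CommRingCat.comp_apply,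
        AffineSpace.isoOfIsAffine_inv_appTop_coord, ASpAffImm.toSpec, Scheme.Hom.comp_appTop,
        Scheme.toSpecΓ_appTop, Scheme.ΓSpecIso_naturality, CommRingCat.comp_apply, Iso.inv_hom_id_apply]
      exact (MvPolynomial.eval₂Hom_X' β (α ∘ a) i).symm
  rw [e]
  infer_instance

/-- The graph `U ×_X T → T ×_S A` is an immersion if it is one over an etale chart covering the image. -/
theorem immersion_of_chart {X : Sp S} {U W M : Over S} {f : (yon S).obj U ⟶ X} (φ : U ⟶ M)
    {bW : (yon S).obj W ⟶ X} (hbW : RepWith @Etale bW) (hsub : Set.range (Points.ofPt f) ⊆ Set.range (Points.ofPt bW))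
    {V : Over S} {qU : V ⟶ U} {qW : V ⟶ W} (hV : IsPullback ((yon S).map qU) ((yon S).map qW) f bW)
    (hK : IsImmersion (prod.lift qW (qU ≫ φ)).left)
    {T P : Over S} {g : (yon S).obj T ⟶ X} {pU : P ⟶ U} {pT : P ⟶ T}
    (hP : IsPullback ((yon S).map pU) ((yon S).map pT) f g) :
    IsImmersion (prod.lift pT (pU ≫ φ)).left := by
  have sqT := hbW.1.isPullback g
  obtain ⟨b, hb⟩ := (yon S).map_surjective (hbW.1.fst g)
  let c : hbW.1.pullback g ⟶ T := hbW.1.snd g
  haveI : Etale c.left := hbW.2 _ _ _ sqT
  rw [← hb] at sqT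
  let P' := pullback pT c
  have sqP := IsPullback.of_hasPullback pT c
  have hbig : IsPullback ((yon S).map (pullback.fst pT c ≫ pU)) ((yon S).map (pullback.snd pT c)) f
      ((yon S).map b ≫ bW) := by
    rw [Functor.map_comp, sqT.w]
    exact (isPullback_yon_map sqP).paste_horiz hP
  obtain ⟨v, hv⟩ := (yon S).map_surjective (hV.lift ((yon S).map (pullback.fst pT c ≫ pU))
    ((yon S).map (pullback.snd pT c ≫ b)) (by rw [hbig.w, Functor.map_comp, Category.assoc]))
  have hv1 : v ≫ qU = pullback.fst pT c ≫ pU := (yon S).map_injective (by rw [Functor.map_comp, hv, hV.lift_fst])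
  have hv2 : v ≫ qW = pullback.snd pT c ≫ b := (yon S).map_injective (by rw [Functor.map_comp, hv, hV.lift_snd])
  have sqv : IsPullback v (pullback.snd pT c) qW b := IsPullback.of_map_of_faithful (F := yon S)
    (IsPullback.of_right (h₁₂ := (yon S).map qU) (v₁₃ := f) (h₂₂ := bW)
      (by rw [← Functor.map_comp, hv1]; exact hbig) (by rw [← Functor.map_comp, ← Functor.map_comp, hv2]) hV)
  -- base change of the graph
  let K : P ⟶ T ⨯ M := prod.lift pT (pU ≫ φ)
  let K' : P' ⟶ hbW.1.pullback g ⨯ M := prod.lift (pullback.snd pT c) (pullback.fst pT c ≫ pU ≫ φ)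
  have sqM : ∀ {A A' : Over S} (k : A' ⟶ A), IsPullback (prod.fst : A' ⨯ M ⟶ A') (prod.map k (𝟙 M)) k prod.fst := by
    intro A A' k
    refine IsPullback.of_isLimit' ⟨(prod.map_fst _ _).symm⟩ (PullbackCone.IsLimit.mk _
      (fun s => prod.lift s.fst (s.snd ≫ prod.snd)) (fun s => prod.lift_fst _ _) (fun s => ?_) (fun s m h1 h2 => ?_))
    · apply prod.hom_ext
      · rw [Category.assoc, prod.map_fst, prod.lift_fst_assoc]; exact s.condition
      · rw [Category.assoc, prod.map_snd, Category.comp_id, prod.lift_snd]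
    · apply prod.hom_ext
      · rw [prod.lift_fst]; exact h1
      · rw [prod.lift_snd, ← h2, Category.assoc, prod.map_snd, Category.comp_id]
  have sq1 : IsPullback (pullback.fst pT c) K' K (prod.map c (𝟙 M)) := by
    refine IsPullback.of_bot (v₂₁ := (prod.fst : hbW.1.pullback g ⨯ M ⟶ _)) (v₂₂ := (prod.fst : T ⨯ M ⟶ T)) (h₃₁ := c)
      (by simp only [K, K', prod.lift_fst]; exact sqP) ?_ (sqM c).flip
    apply prod.hom_ext <;> simp [K, K', sqP.w]
  have sq2 : IsPullback v K' (prod.lift qW (qU ≫ φ)) (prod.map b (𝟙 M)) := by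
    refine IsPullback.of_bot (v₂₁ := (prod.fst : hbW.1.pullback g ⨯ M ⟶ _)) (v₂₂ := (prod.fst : W ⨯ M ⟶ W)) (h₃₁ := b)
      (by simp only [K', prod.lift_fst]; exact sqv) ?_ (sqM b).flip
    apply prod.hom_ext
    · simp [K', hv2]
    · simp [K', reassoc_of% hv1]
  haveI hK' : IsImmersion K'.left := MorphismProperty.of_isPullback (isPullback_left sq2) hK
  let cM := (prod.map c (𝟙 M)).left
  haveI : Etale cM := MorphismProperty.of_isPullback (isPullback_left (sqM c)) ‹Etale c.left›
  let Ω : (T ⨯ M).left.Opens := ⟨Set.range cM, cM.isOpenMap.isOpen_range⟩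
  have hrange : Set.range K.left ⊆ Ω := by
    rintro _ ⟨p, rfl⟩
    obtain ⟨w, hw⟩ : Points.ofPt g (pT.left p) ∈ Set.range (Points.ofPt bW) :=
      hsub ⟨pU.left p, by rw [← ofPt_yon_map_comp, hP.w, ofPt_yon_map_comp]⟩
    obtain ⟨q, -, hq⟩ := points_exists_of_isPullback sqT (Points.ofScheme W w) (Points.ofScheme T (pT.left p))
      (by rw [← Points.ofPt_eq_map_ofScheme, ← Points.ofPt_eq_map_ofScheme, hw])
    obtain ⟨t', rfl⟩ := (Points.schemeHomeo _).surjective q
    rw [Points.map_yon_map_apply] at hq
    obtain ⟨p', hp', -⟩ := Scheme.Pullback.exists_preimage_pullback (f := pT.left) (g := c.left) p t'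
      ((Points.schemeHomeo T).injective hq).symm
    refine ⟨K'.left ((isPullback_left sqP).isoPullback.inv p'), ?_⟩
    show cM (K'.left _) = K.left p
    rw [← Scheme.Hom.comp_apply, ← (isPullback_left sq1).w, Scheme.Hom.comp_apply]
    refine congrArg K.left ?_
    rw [← Scheme.Hom.comp_apply]
    exact (congr($((isPullback_left sqP).isoPullback_inv_fst) p')).trans hp'
  let l : P.left ⟶ Ω.toScheme := IsOpenImmersion.lift Ω.ι K.left (by rw [Scheme.Opens.range_ι]; exact hrange)
  have hl : l ≫ Ω.ι = K.left := IsOpenImmersion.lift_fac _ _ _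
  let c' : (hbW.1.pullback g ⨯ M).left ⟶ Ω.toScheme :=
    IsOpenImmersion.lift Ω.ι cM (by rw [Scheme.Opens.range_ι]; exact subset_rfl)
  have hc' : c' ≫ Ω.ι = cM := IsOpenImmersion.lift_fac _ _ _
  haveI : Etale c' := by
    haveI : Etale (c' ≫ Ω.ι) := by rw [hc']; infer_instance
    exact Etale.of_comp c' Ω.ι
  haveI : Surjective c' := ⟨fun x => by
    obtain ⟨y, hy⟩ := x.2
    refine ⟨y, Ω.ι.isOpenEmbedding.injective ?_⟩
    rw [← Scheme.Hom.comp_apply, hc']; exact hy⟩
  have sq3 : IsPullback (pullback.fst pT c).left K'.left l c' := by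
    have h := isPullback_left sq1
    have hw : (pullback.fst pT c).left ≫ l = K'.left ≫ c' := by
      rw [← cancel_mono Ω.ι, Category.assoc, Category.assoc, hl, hc']; exact h.w
    exact ⟨⟨hw⟩, ⟨PullbackCone.IsLimit.mk hw
      (fun s => h.lift s.fst s.snd (by rw [← hl, show (prod.map c (𝟙 M)).left = cM from rfl, ← hc', reassoc_of% s.condition]))
      (fun s => h.lift_fst _ _ _) (fun s => h.lift_snd _ _ _)
      (fun s m h1 h2 => h.hom_ext (by rw [h.lift_fst]; exact h1) (by rw [h.lift_snd]; exact h2))⟩⟩
  haveI := ASp.isImmersion_descends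
  have : IsImmersion l := MorphismProperty.of_isPullback_of_descendsAlong (P := @IsImmersion)
    (Q := @Surjective ⊓ @Flat ⊓ @LocallyOfFinitePresentation) sq3.flip ⟨⟨‹_›, inferInstance⟩, inferInstance⟩ hK'
  show IsImmersion K.left
  rw [← hl]
  infer_instance

/-- Immersion of `U` into relative affine space, given an immersion `U ×_X W ⟶ U ×_S W`. -/
theorem exists_immersion [QuasiSeparatedSpace S] {X : Sp S} (hqs : IsQuasiSeparatedSp X)
    {U : Over S} [IsAffine U.left] (f : (yon S).obj U ⟶ X) (hf : LocP @LocallyOfFiniteType f) (hfr : Representable f)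
    {W : Over S} [IsAffine W.left] {bW : (yon S).obj W ⟶ X} (hbW : RepWith @Etale bW)
    (hsub : Set.range (Points.ofPt f) ⊆ Set.range (Points.ofPt bW))
    {V : Over S} {qU : V ⟶ U} {qW : V ⟶ W} (sqV : IsPullback ((yon S).map qU) ((yon S).map qW) f bW)
    (himm : IsImmersion (prod.lift qU qW).left) :
    ∃ (n : ℕ) (i : (yon S).obj U ⟶ X ⨯ (yon S).obj (Over.mk (𝔸(ULift.{u} (Fin n); S) ↘ S))),
      i ≫ prod.fst = f ∧ RepWith @IsImmersion i := by
  haveI : Etale qU.left := hbW.2 f ((yon S).map qW) qU sqV.flip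
  haveI : LocallyOfFiniteType qW.left := hf ((yon S).map qU) bW qW
    (repWith_yon_map (P := @Etale) (g := qU) inferInstance) hbW sqV.w
  haveI : IsImmersion (prod.lift qU qW).left := himm
  have sqd := isPullback_diag_pair sqV
  haveI : QuasiCompact (prod.lift qU qW).left := hqs.2 _ _ _ sqd
  haveI : CompactSpace ↥(U ⨯ W).left := by
    haveI : QuasiCompact W.hom := inferInstance
    haveI : QuasiCompact (prod.fst : U ⨯ W ⟶ U).left :=
      MorphismProperty.of_isPullback (isPullback_prod_left U W).flip ‹QuasiCompact W.hom›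
    exact QuasiCompact.compactSpace_of_compactSpace (prod.fst : U ⨯ W ⟶ U).left
  haveI : CompactSpace ↥V.left := QuasiCompact.compactSpace_of_compactSpace (prod.lift qU qW).left
  obtain ⟨n, a, ha⟩ := exists_functions qU qW
  let M : Over S := Over.mk (𝔸(ULift.{u} (Fin n); S) ↘ S)
  let φ : U ⟶ M := Over.homMk (AffineSpace.homOfVector U.hom a) (AffineSpace.homOfVector_over _ _)
  have hK : IsImmersion (prod.lift qW (qU ≫ φ)).left := by
    let e := (isPullback_prod_left W M).flip.isoIsPullback _ _ (AffineSpace.isPullback_map W.hom)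
    have hh : (prod.lift qW (qU ≫ φ)).left ≫ e.hom =
        AffineSpace.homOfVector qW.left (fun i => qU.left.appTop (a i)) := by
      apply AffineSpace.hom_ext
      · rw [Category.assoc, IsPullback.isoIsPullback_hom_snd, AffineSpace.homOfVector_over, ← Over.comp_left,
          prod.lift_fst]
      · intro i
        rw [AffineSpace.homOfVector_appTop_coord, ← AffineSpace.map_appTop_coord W.hom i, ← CommRingCat.comp_apply,
          ← Scheme.Hom.comp_appTop, Category.assoc,
          show e.hom ≫ AffineSpace.map _ W.hom = (prod.snd : W ⨯ M ⟶ M).left from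
            IsPullback.isoIsPullback_hom_fst _ _ _ _, ← Over.comp_left,
          prod.lift_snd, Over.comp_left, Scheme.Hom.comp_appTop, CommRingCat.comp_apply]
        show qU.left.appTop ((AffineSpace.homOfVector U.hom a).appTop (AffineSpace.coord S i)) = _
        rw [AffineSpace.homOfVector_appTop_coord]
    haveI : IsImmersion ((prod.lift qW (qU ≫ φ)).left ≫ e.hom) := by rw [hh]; exact ha
    exact IsImmersion.of_comp _ e.hom
  refine ⟨n, prod.lift f ((yon S).map φ), prod.lift_fst _ _, repWith_of_exists fun T g => ?_⟩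
  obtain ⟨τ, hτ⟩ := (yon S).map_surjective (g ≫ prod.snd)
  obtain ⟨pU, hpU⟩ := (yon S).map_surjective (hfr.fst (g ≫ prod.fst))
  have sqP := hfr.isPullback (g ≫ prod.fst)
  rw [← hpU] at sqP
  let pT := hfr.snd (g ≫ prod.fst)
  have hKT := immersion_of_chart φ hbW hsub sqV hK sqP
  let sect : T ⟶ T ⨯ M := prod.lift (𝟙 T) τ
  let K := prod.lift pT (pU ≫ φ)
  have sqQ := IsPullback.of_hasPullback K sect
  have h1 : pullback.fst K sect ≫ pT = pullback.snd K sect := by
    have := sqQ.w =≫ prod.fst
    simpa [K, sect] using this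
  have h2 : pullback.fst K sect ≫ pU ≫ φ = pullback.snd K sect ≫ τ := by
    have := sqQ.w =≫ prod.snd
    simpa [K, sect] using this
  have sq' := isPullback_yon_map sqQ
  refine ⟨pullback K sect, (yon S).map (pullback.fst K sect ≫ pU), pullback.snd K sect, ?_,
    MorphismProperty.of_isPullback (isPullback_left sqQ) hKT⟩
  have hw : (yon S).map (pullback.fst K sect ≫ pU) ≫ prod.lift f ((yon S).map φ) =
      (yon S).map (pullback.snd K sect) ≫ g := by
    apply prod.hom_ext
    · simp only [Category.assoc, prod.lift_fst, Functor.map_comp, sqP.w]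
      rw [← Functor.map_comp_assoc, h1]
    · simp only [Category.assoc, prod.lift_snd]
      rw [← Functor.map_comp, ← hτ, ← Functor.map_comp, Category.assoc, h2]
  have key : ∀ (s : PullbackCone (prod.lift f ((yon S).map φ)) g), ∃ l : s.pt ⟶ (yon S).obj (pullback K sect),
      l ≫ (yon S).map (pullback.fst K sect ≫ pU) = s.fst ∧ l ≫ (yon S).map (pullback.snd K sect) = s.snd := by
    intro s
    have e1 : s.fst ≫ f = s.snd ≫ g ≫ prod.fst := by
      have := s.condition =≫ prod.fst
      simpa using this
    have e2 : s.fst ≫ (yon S).map φ = s.snd ≫ (yon S).map τ := by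
      have := s.condition =≫ prod.snd
      simpa [hτ] using this
    have hl : sqP.lift s.fst s.snd e1 ≫ (yon S).map K = s.snd ≫ (yon S).map sect := by
      rw [← cancel_mono (prodComparison (yon S) T M)]
      apply prod.hom_ext <;>
        simp only [Category.assoc, prodComparison_fst, prodComparison_snd, ← Functor.map_comp, K, sect, prod.lift_fst,
          prod.lift_snd]
      · rw [sqP.lift_snd, CategoryTheory.Functor.map_id, Category.comp_id]
      · rw [Functor.map_comp, sqP.lift_fst_assoc, e2]
    refine ⟨sq'.lift _ _ hl, ?_, sq'.lift_snd _ _ _⟩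
    rw [Functor.map_comp, sq'.lift_fst_assoc, sqP.lift_fst]
  choose l hl1 hl2 using key
  refine ⟨⟨hw⟩, ⟨PullbackCone.IsLimit.mk hw l hl1 hl2 fun s m h1' h2' => ?_⟩⟩
  refine sq'.hom_ext (sqP.hom_ext ?_ ?_) (h2'.trans (hl2 s).symm)
  · rw [Category.assoc, Category.assoc, ← Functor.map_comp, h1', hl1]
  · rw [Category.assoc, Category.assoc, ← Functor.map_comp, h1, h2', hl2]

end Groth.Agent.ASpAffImm
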