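import Mathlib

/-!
An immersion into the spectrum of a polynomial ring in arbitrarily many variables, of finite type over the
coefficients, already gives an immersion using finitely many of the variables.
-/

set_option autoImplicit false
set_option backward.isDefEq.respectTransparency false
set_option backward.isDefEq.respectTransparency.types false

universe u

open CategoryTheory CategoryTheory.Limits AlgebraicGeometry TopologicalSpace

namespace Groth.Agent.ASpAffImm

variable {V : Scheme.{u}}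

/-- The morphism to the spectrum of a ring given by a map into global sections. -/
noncomputable def toSpec {R : Type u} [CommRing R] (μ : R →+* Γ(V, ⊤)) : V ⟶ Spec (CommRingCat.of R) :=
  V.toSpecΓ ≫ Spec.map (CommRingCat.ofHom μ)

theorem toSpec_comp {R R' : Type u} [CommRing R] [CommRing R'] (μ : R →+* Γ(V, ⊤)) (φ : R' →+* R) :
    toSpec μ ≫ Spec.map (CommRingCat.ofHom φ) = toSpec (μ.comp φ) := by
  rw [toSpec, toSpec, Category.assoc, ← Spec.map_comp]
  rfl

theorem preimage_basicOpen {R : Type u} [CommRing R] (μ : R →+* Γ(V, ⊤)) (r : R) :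
    toSpec μ ⁻¹ᵁ PrimeSpectrum.basicOpen r = V.basicOpen (μ r) := by
  rw [← V.toSpecΓ_preimage_basicOpen (μ r)]
  rfl

/-- Restriction to `V_r` as a map out of the localization. -/
theorem exists_local_hom {R : Type u} [CommRing R] (μ : R →+* Γ(V, ⊤)) (r : R) (O : V.Opens)
    (hO : O = V.basicOpen (μ r)) :
    ∃ (φ : Localization.Away r →+* Γ(O.toScheme, ⊤)),
      φ.comp (algebraMap R (Localization.Away r)) = O.ι.appTop.hom.comp μ := by
  subst hO
  have hb : (V.basicOpen (μ r)).toScheme.basicOpen ((V.basicOpen (μ r)).ι.appTop (μ r)) = ⊤ := by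
    rw [← Scheme.preimage_basicOpen_top]
    exact (V.basicOpen (μ r)).ι_preimage_self
  have key : ∀ {E : Scheme.{u}} (x : Γ(E, ⊤)) (W : E.Opens) (hle : W ≤ ⊤), W = ⊤ →
      IsUnit (E.presheaf.map (homOfLE hle).op x) → IsUnit x := by
    rintro E x _ hle rfl h
    simpa using h
  have hu : IsUnit (((V.basicOpen (μ r)).ι.appTop.hom.comp μ) r) :=
    key _ _ _ hb (RingedSpace.isUnit_res_basicOpen (V.basicOpen (μ r)).toScheme.toRingedSpace _)
  exact ⟨IsLocalization.Away.lift r hu, IsLocalization.Away.lift_comp r hu⟩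

theorem toSpec_local {R : Type u} [CommRing R] (μ : R →+* Γ(V, ⊤)) (r : R) (O : V.Opens)
    (φ : Localization.Away r →+* Γ(O.toScheme, ⊤))
    (hφ : φ.comp (algebraMap R (Localization.Away r)) = O.ι.appTop.hom.comp μ) :
    toSpec φ ≫ Spec.map (CommRingCat.ofHom (algebraMap R (Localization.Away r))) = O.ι ≫ toSpec μ := by
  rw [toSpec_comp, hφ, toSpec, toSpec, Scheme.toSpecΓ_naturality_assoc, ← Spec.map_comp]
  rfl

theorem surjective_of_closedImmersion {R : Type u} [CommRing R] (O : V.Opens) [IsAffine O.toScheme]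
    (φ : R →+* Γ(O.toScheme, ⊤)) (h : IsClosedImmersion (toSpec φ)) : Function.Surjective φ := by
  haveI : IsClosedImmersion (Spec.map (CommRingCat.ofHom φ)) := by
    rw [show Spec.map (CommRingCat.ofHom φ) = O.toScheme.isoSpec.inv ≫ toSpec φ by
      rw [toSpec, ← Category.assoc]
      exact ((Iso.inv_hom_id_assoc O.toScheme.isoSpec _).symm.trans (Category.assoc _ _ _).symm)]
    infer_instance
  have h : Function.Surjective (Spec.map (CommRingCat.ofHom φ)).appTop :=
    (Spec.map (CommRingCat.ofHom φ)).app_surjective ⊤ (isAffineOpen_top _)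
  have h2 := (ConcreteCategory.bijective_of_isIso (Scheme.ΓSpecIso (CommRingCat.of Γ(O.toScheme, ⊤))).hom).2.comp h
  have e : ⇑(ConcreteCategory.hom (Scheme.ΓSpecIso (CommRingCat.of Γ(O.toScheme, ⊤))).hom) ∘
      ⇑(ConcreteCategory.hom (Spec.map (CommRingCat.ofHom φ)).appTop) =
      ⇑φ ∘ ⇑(ConcreteCategory.hom (Scheme.ΓSpecIso (CommRingCat.of R)).hom) := funext fun x =>
    (ConcreteCategory.congr_hom (Scheme.ΓSpecIso_naturality (CommRingCat.ofHom φ)) x)
  rw [e] at h2
  exact h2.of_comp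

set_option maxHeartbeats 1600000 in
theorem exists_finite_variables [CompactSpace V] {A : Type u} {B : Type u} [CommRing B]
    (β : B →+* Γ(V, ⊤)) (hβ : LocallyOfFiniteType (toSpec β)) (α : A → Γ(V, ⊤))
    (hm : IsImmersion (toSpec (MvPolynomial.eval₂Hom β α))) :
    ∃ (n : ℕ) (a : ULift.{u} (Fin n) → A), IsImmersion (toSpec (MvPolynomial.eval₂Hom β (α ∘ a))) := by
  classical
  let μ := MvPolynomial.eval₂Hom β α
  let m := toSpec μ
  haveI : IsImmersion m := hm
  -- affine pieces closed in basic opens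
  have loc : ∀ v : V, ∃ r : MvPolynomial A B, v ∈ V.basicOpen (μ r) ∧ IsAffineOpen (V.basicOpen (μ r)) ∧
      ∃ φ : Localization.Away r →+* Γ((V.basicOpen (μ r)).toScheme, ⊤),
        φ.comp (algebraMap _ (Localization.Away r)) = (V.basicOpen (μ r)).ι.appTop.hom.comp μ ∧
        Function.Surjective φ := by
    intro v
    obtain ⟨_, ⟨r, rfl⟩, hvr, hr⟩ := PrimeSpectrum.isTopologicalBasis_basic_opens.exists_subset_of_mem_open
      (show m v ∈ coborder (Set.range m) from subset_coborder ⟨v, rfl⟩) m.isLocallyClosed_range.isOpen_coborder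
    obtain ⟨φ, hφ⟩ := exists_local_hom μ r _ rfl
    have hsq := toSpec_local μ r _ φ hφ
    let j := Spec.map (CommRingCat.ofHom (algebraMap (MvPolynomial A B) (Localization.Away r)))
    haveI : IsOpenImmersion j := IsOpenImmersion.of_isLocalization r
    have hj : Set.range j = (PrimeSpectrum.basicOpen r : Opens (PrimeSpectrum (MvPolynomial A B))).1 := PrimeSpectrum.localization_away_comap_range _ r
    haveI : IsPreimmersion (toSpec φ ≫ j) := by
      rw [hsq]; exact inferInstanceAs (IsPreimmersion ((V.basicOpen (μ r)).ι ≫ m))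
    haveI : IsPreimmersion (toSpec φ) := IsPreimmersion.of_comp (toSpec φ) j
    have hrange : Set.range (toSpec φ) = j ⁻¹' closure (Set.range m) := by
      ext x
      constructor
      · rintro ⟨y, rfl⟩
        refine subset_closure ⟨(V.basicOpen (μ r)).ι y, ?_⟩
        rw [← Scheme.Hom.comp_apply, ← Scheme.Hom.comp_apply, hsq]
      · intro hx
        have hxr : j x ∈ PrimeSpectrum.basicOpen r := hj.le ⟨x, rfl⟩
        obtain ⟨w, hw⟩ : j x ∈ Set.range m := by
          rw [← closure_inter_coborder (s := Set.range m)]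
          exact ⟨hx, hr hxr⟩
        have hwr : w ∈ V.basicOpen (μ r) := by
          rw [← preimage_basicOpen μ r]
          show m w ∈ PrimeSpectrum.basicOpen r
          rw [hw]; exact hxr
        refine ⟨⟨w, hwr⟩, j.isOpenEmbedding.injective ?_⟩
        rw [← Scheme.Hom.comp_apply, hsq, ← hw]
        rfl
    haveI hcl : IsClosedImmersion (toSpec φ) :=
      IsClosedImmersion.of_isPreimmersion _ (by rw [hrange]; exact isClosed_closure.preimage j.continuous)
    haveI haff : IsAffine (V.basicOpen (μ r)).toScheme := isAffine_of_isAffineHom (toSpec φ)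
    exact ⟨r, by rw [← preimage_basicOpen μ r]; exact hvr, haff, φ, hφ,
      surjective_of_closedImmersion _ φ hcl⟩
  choose r hvr haff φ hφ hsurj using loc
  obtain ⟨t, ht⟩ := isCompact_univ.elim_finite_subcover (fun v => (V.basicOpen (μ (r v)) : Set V))
    (fun v => (V.basicOpen (μ (r v))).2) (fun v _ => Set.mem_iUnion.2 ⟨v, hvr v⟩)
  -- generators of the pieces over the coefficients
  have gen : ∀ v, ∃ P : Finset (MvPolynomial A B), ∀ e : Γ((V.basicOpen (μ (r v))).toScheme, ⊤),
      ∃ (k : ℕ) (p : MvPolynomial A B), p ∈ Algebra.adjoin B (↑(insert (r v) P) : Set (MvPolynomial A B)) ∧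
        e * (V.basicOpen (μ (r v))).ι.appTop.hom (μ (r v)) ^ k = (V.basicOpen (μ (r v))).ι.appTop.hom (μ p) := by
    intro v
    let E := (V.basicOpen (μ (r v))).toScheme
    haveI : IsAffine E := haff v
    let ρ : MvPolynomial A B →+* Γ(E, ⊤) := (V.basicOpen (μ (r v))).ι.appTop.hom.comp μ
    have hft : ((V.basicOpen (μ (r v))).ι.appTop.hom.comp β).FiniteType := by
      haveI := hβ
      have h : LocallyOfFiniteType ((V.basicOpen (μ (r v))).ι ≫ toSpec β) := inferInstance
      have e : E.isoSpec.inv ≫ (V.basicOpen (μ (r v))).ι ≫ toSpec β =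
          Spec.map (CommRingCat.ofHom ((V.basicOpen (μ (r v))).ι.appTop.hom.comp β)) := by
        rw [toSpec, Scheme.toSpecΓ_naturality_assoc, ← Spec.map_comp]
        exact Iso.inv_hom_id_assoc E.isoSpec _
      have h2 : LocallyOfFiniteType
          (Spec.map (CommRingCat.ofHom ((V.basicOpen (μ (r v))).ι.appTop.hom.comp β))) := e ▸ inferInstance
      rw [HasRingHomProperty.Spec_iff (P := @LocallyOfFiniteType)] at h2
      exact h2
    letI : Algebra B Γ(E, ⊤) := ((V.basicOpen (μ (r v))).ι.appTop.hom.comp β).toAlgebra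
    haveI : Algebra.FiniteType B Γ(E, ⊤) := hft
    obtain ⟨G, hG⟩ := Algebra.FiniteType.out (R := B) (A := Γ(E, ⊤))
    have num : ∀ e : Γ(E, ⊤), ∃ (k : ℕ) (p : MvPolynomial A B), e * ρ (r v) ^ k = ρ p := by
      intro e
      obtain ⟨x, rfl⟩ := hsurj v e
      obtain ⟨k, p, hx⟩ := IsLocalization.Away.surj (r v) x
      refine ⟨k, p, ?_⟩
      show φ v x * ρ (r v) ^ k = ρ p
      rw [show ρ = (φ v).comp (algebraMap _ _) from (hφ v).symm]
      have h2 := congrArg (φ v) hx
      rw [map_mul, map_pow] at h2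
      exact h2
    choose k p hkp using num
    refine ⟨G.image p, fun e => ?_⟩
    have he : e ∈ Algebra.adjoin B (↑G : Set Γ(E, ⊤)) := by rw [hG]; trivial
    have hC : ∀ b : B, ρ (MvPolynomial.C b) = algebraMap B Γ(E, ⊤) b := fun b => by
      show (V.basicOpen (μ (r v))).ι.appTop.hom (μ (MvPolynomial.C b)) = _
      rw [MvPolynomial.eval₂Hom_C]
      rfl
    have hr : r v ∈ Algebra.adjoin B (↑(insert (r v) (G.image p)) : Set (MvPolynomial A B)) :=
      Algebra.subset_adjoin (by simp)
    induction he using Algebra.adjoin_induction with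
    | mem x hx => exact ⟨k x, p x, Algebra.subset_adjoin (by simp; exact Or.inr ⟨x, hx, rfl⟩), hkp x⟩
    | algebraMap b =>
      exact ⟨0, MvPolynomial.C b, Subalgebra.algebraMap_mem _ b, by rw [pow_zero, mul_one]; exact (hC b).symm⟩
    | add x y _ _ hx hy =>
      obtain ⟨k₁, p₁, h₁, e₁⟩ := hx
      obtain ⟨k₂, p₂, h₂, e₂⟩ := hy
      refine ⟨k₁ + k₂, p₁ * r v ^ k₂ + p₂ * r v ^ k₁, add_mem (mul_mem h₁ (pow_mem hr _)) (mul_mem h₂ (pow_mem hr _)), ?_⟩
      simp only [map_add, map_mul, map_pow, ← e₁, ← e₂]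
      ring
    | mul x y _ _ hx hy =>
      obtain ⟨k₁, p₁, h₁, e₁⟩ := hx
      obtain ⟨k₂, p₂, h₂, e₂⟩ := hy
      refine ⟨k₁ + k₂, p₁ * p₂, mul_mem h₁ h₂, ?_⟩
      simp only [map_mul, ← e₁, ← e₂]
      ring
  choose P hP using gen
  -- the finitely many variables
  let s : Finset A := t.biUnion fun v => (insert (r v) (P v)).biUnion MvPolynomial.vars
  let e := s.equivFin
  let a : ULift.{u} (Fin s.card) → A := fun i => (e.symm i.down).1
  refine ⟨s.card, a, ?_⟩
  let π : MvPolynomial (ULift.{u} (Fin s.card)) B →ₐ[B] MvPolynomial A B := MvPolynomial.rename a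
  let ν := MvPolynomial.eval₂Hom β (α ∘ a)
  have hν : ∀ q, μ (π q) = ν q := fun q => MvPolynomial.eval₂Hom_rename (f := β) (k := a) (g := α) (p := q)
  have hlift : ∀ v ∈ t, ∀ q ∈ Algebra.adjoin B (↑(insert (r v) (P v)) : Set (MvPolynomial A B)),
      ∃ q', π q' = q := by
    intro v hv q hq
    refine (Algebra.adjoin_le (S := π.range) ?_) hq
    intro x hx
    refine MvPolynomial.exists_rename_eq_of_vars_subset_range x a
      (fun i j hij => ULift.ext _ _ (e.symm.injective (Subtype.ext hij))) fun y hy => ?_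
    refine ⟨⟨e ⟨y, Finset.mem_biUnion.2 ⟨v, hv, Finset.mem_biUnion.2 ⟨x, hx, hy⟩⟩⟩⟩, ?_⟩
    simp [a]
  have hr' : ∀ v : t, ∃ r', π r' = r v.1 := fun v => hlift v.1 v.2 _ (Algebra.subset_adjoin (by simp))
  choose r' hr' using hr'
  let Ω : (Spec (CommRingCat.of (MvPolynomial (ULift.{u} (Fin s.card)) B))).Opens :=
    ⨆ v : t, PrimeSpectrum.basicOpen (r' v)
  have hcov : ⊤ ≤ toSpec ν ⁻¹ᵁ Ω := by
    intro w _
    obtain ⟨v, hv, hw⟩ := Set.mem_iUnion₂.1 (ht (Set.mem_univ w))
    refine Opens.mem_iSup.2 ⟨⟨v, hv⟩, ?_⟩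
    have : w ∈ toSpec ν ⁻¹ᵁ PrimeSpectrum.basicOpen (r' ⟨v, hv⟩) := by
      rw [preimage_basicOpen, ← hν, hr']; exact hw
    exact this
  let l : V ⟶ Ω.toScheme := IsOpenImmersion.lift Ω.ι (toSpec ν) (by
    rintro _ ⟨w, rfl⟩
    rw [Scheme.Opens.range_ι]
    exact hcov trivial)
  have hl : l ≫ Ω.ι = toSpec ν := IsOpenImmersion.lift_fac _ _ _
  suffices IsClosedImmersion l by rw [← hl]; infer_instance
  let D : t → Scheme.{u} := fun v => Spec (CommRingCat.of (Localization.Away (r' v)))
  let j : ∀ v, D v ⟶ Spec (CommRingCat.of (MvPolynomial (ULift.{u} (Fin s.card)) B)) := fun v =>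
    Spec.map (CommRingCat.ofHom (algebraMap _ (Localization.Away (r' v))))
  haveI : ∀ v, IsOpenImmersion (j v) := fun v => IsOpenImmersion.of_isLocalization (r' v)
  have hjr : ∀ v, Set.range (j v) = (PrimeSpectrum.basicOpen (r' v) : Opens (PrimeSpectrum (MvPolynomial (ULift.{u} (Fin s.card)) B))).1 := fun v =>
    PrimeSpectrum.localization_away_comap_range _ _
  let f : ∀ v, D v ⟶ Ω.toScheme := fun v => IsOpenImmersion.lift Ω.ι (j v) (by
    rw [Scheme.Opens.range_ι, hjr]
    exact SetLike.coe_subset_coe.2 (le_iSup (fun v : t => PrimeSpectrum.basicOpen (r' v)) v))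
  have hf : ∀ v, f v ≫ Ω.ι = j v := fun v => IsOpenImmersion.lift_fac _ _ _
  haveI : ∀ v, IsOpenImmersion (f v) := fun v => by
    haveI : IsOpenImmersion (f v ≫ Ω.ι) := by rw [hf]; infer_instance
    exact IsOpenImmersion.of_comp (f v) Ω.ι
  let 𝒰 : Ω.toScheme.OpenCover := {
    I₀ := t, X := D, f := f
    mem₀ := by
      rw [Scheme.presieve₀_mem_precoverage_iff]
      refine ⟨fun x => ?_, inferInstance⟩
      obtain ⟨v, hv⟩ := Opens.mem_iSup.1 x.2
      obtain ⟨y, hy⟩ := (hjr v).ge hv
      refine ⟨v, y, Subtype.ext ?_⟩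
      rw [← hy, ← hf]; rfl }
  refine IsZariskiLocalAtTarget.of_openCover (P := @IsClosedImmersion) 𝒰 fun v => ?_
  let O : V.Opens := V.basicOpen (μ (r v.1))
  obtain ⟨ψ, hψ⟩ := exists_local_hom ν (r' v) O (by rw [← hν, hr'])
  have hsq : O.ι ≫ l = toSpec ψ ≫ f v := by
    rw [← cancel_mono Ω.ι, Category.assoc, Category.assoc, hl, hf]
    exact (toSpec_local ν (r' v) O ψ hψ).symm
  have hpb : IsPullback (toSpec ψ) O.ι (f v) l := IsOpenImmersion.isPullback _ _ _ _ hsq (by
    rw [Scheme.Opens.opensRange_ι]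
    ext x
    show l x ∈ Set.range (f v) ↔ x ∈ O
    have hO : O = toSpec ν ⁻¹ᵁ PrimeSpectrum.basicOpen (r' v) := by rw [preimage_basicOpen, ← hν, hr']
    rw [hO]
    constructor
    · rintro ⟨y, hy⟩
      show toSpec ν x ∈ PrimeSpectrum.basicOpen (r' v)
      refine (hjr v).le ⟨y, ?_⟩
      rw [← hf, ← hl, Scheme.Hom.comp_apply, Scheme.Hom.comp_apply, hy]
    · intro hx
      obtain ⟨y, hy⟩ := (hjr v).ge (hx : toSpec ν x ∈ PrimeSpectrum.basicOpen (r' v))
      refine ⟨y, Ω.ι.isOpenEmbedding.injective ?_⟩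
      rw [← Scheme.Hom.comp_apply, ← Scheme.Hom.comp_apply, hf, hl, hy])
  have hc : IsClosedImmersion (toSpec ψ) := by
    have hsur : Function.Surjective ψ := by
      intro e
      obtain ⟨k, p, hp, he⟩ := hP v.1 e
      obtain ⟨p', hp'⟩ := hlift v.1 v.2 p hp
      refine ⟨IsLocalization.mk' _ p' (⟨r' v ^ k, k, rfl⟩ : Submonoid.powers (r' v)), ?_⟩
      have hu : IsUnit (ψ (algebraMap _ (Localization.Away (r' v)) (r' v ^ k))) :=
        ((IsLocalization.map_units (Localization.Away (r' v)) (⟨r' v ^ k, k, rfl⟩ : Submonoid.powers (r' v))).map ψ)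
      refine hu.mul_left_injective ?_
      show ψ _ * _ = e * _
      rw [← map_mul, IsLocalization.mk'_spec _ p' (⟨r' v ^ k, k, rfl⟩ : Submonoid.powers (r' v)), ← RingHom.comp_apply, ← RingHom.comp_apply, hψ]
      simp only [RingHom.comp_apply, map_pow, ← hν, hr', hp']
      exact he.symm
    haveI : IsAffine O.toScheme := haff v.1
    haveI := IsClosedImmersion.spec_of_surjective (CommRingCat.ofHom ψ) hsur
    exact inferInstanceAs (IsClosedImmersion (O.toScheme.isoSpec.hom ≫ Spec.map (CommRingCat.ofHom ψ)))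
  show IsClosedImmersion (pullback.snd l (f v))
  rw [← hpb.flip.isoPullback_inv_snd]
  haveI := hc
  infer_instance

end Groth.Agent.ASpAffImm
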